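import Cfsg.Agent.OD.Pre
import Cfsg.Agent.H6.Top2
import Cfsg.Agent.H6.G2A.D0
set_option autoImplicit false
set_option maxRecDepth 100000
set_option Elab.async false
set_option linter.all false
namespace CfH6.G2A
open CfH6 MulAction
noncomputable def n0_0 : Net := mkNet (nat_lit 512) [(nat_lit 256, k0), (nat_lit 128, k1), (nat_lit 64, k2), (nat_lit 32, k3), (nat_lit 16, k4), (nat_lit 8, k5), (nat_lit 4, k6), (nat_lit 2, k7)] [(k8, nat_lit 1)]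
noncomputable def n0_1 : Net := mkNet (nat_lit 512) [(nat_lit 256, k9), (nat_lit 128, k10), (nat_lit 64, k11), (nat_lit 32, k12), (nat_lit 16, k13), (nat_lit 8, k14), (nat_lit 4, k15), (nat_lit 2, k16)] [(k17, nat_lit 1)]
noncomputable def n0_2 : Net := mkNet (nat_lit 512) [(nat_lit 256, k18), (nat_lit 128, k19), (nat_lit 64, k20), (nat_lit 32, k21), (nat_lit 16, k22), (nat_lit 8, k23), (nat_lit 4, k24), (nat_lit 2, k25)] [(k26, nat_lit 1)]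
noncomputable def n0_3 : Net := mkNet (nat_lit 512) [(nat_lit 256, k27), (nat_lit 128, k28), (nat_lit 64, k29), (nat_lit 32, k30), (nat_lit 16, k31), (nat_lit 8, k32), (nat_lit 4, k33), (nat_lit 2, k34)] [(k35, nat_lit 1)]
noncomputable def n0_4 : Net := mkNet (nat_lit 512) [(nat_lit 256, k36), (nat_lit 128, k37), (nat_lit 64, k38), (nat_lit 32, k39), (nat_lit 16, k40), (nat_lit 8, k41), (nat_lit 4, k42), (nat_lit 2, k43)] [(k44, nat_lit 1)]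
noncomputable def n0_5 : Net := mkNet (nat_lit 512) [(nat_lit 256, k45), (nat_lit 128, k46), (nat_lit 64, k47), (nat_lit 32, k48), (nat_lit 16, k49), (nat_lit 8, k50), (nat_lit 4, k51), (nat_lit 2, k52)] [(k53, nat_lit 1)]
noncomputable def n2_0 : Net := mkNet (nat_lit 40) [(nat_lit 20, (nat_lit 0x6cf686f094)), (nat_lit 10, (nat_lit 0xc3a32cd178)), (nat_lit 5, (nat_lit 0xac02088214))] [((nat_lit 0x940008000), nat_lit 1), ((nat_lit 0x5204a50848), nat_lit 1), ((nat_lit 0x90a420404), nat_lit 1), ((nat_lit 0x84010000), nat_lit 1), ((nat_lit 0x8000), nat_lit 1)]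
noncomputable def n2_1 : Net := mkNet (nat_lit 40) [(nat_lit 20, (nat_lit 0x6000060000)), (nat_lit 10, (nat_lit 0x2d0b48721c)), (nat_lit 5, (nat_lit 0x10b10c6200))] [((nat_lit 0x2940108004), nat_lit 1), ((nat_lit 0x284a42840), nat_lit 1), ((nat_lit 0x140501000), nat_lit 1), ((nat_lit 0xa02800), nat_lit 1), ((nat_lit 0x100000), nat_lit 1)]
noncomputable def n2_2 : Net := mkNet (nat_lit 40) [(nat_lit 20, (nat_lit 0)), (nat_lit 10, (nat_lit 0x6018000000)), (nat_lit 5, (nat_lit 0x21108aaa10))] [((nat_lit 0x2142508020), nat_lit 1), ((nat_lit 0x90840940), nat_lit 1), ((nat_lit 0x1404214a0), nat_lit 1), ((nat_lit 0x80012140), nat_lit 1), ((nat_lit 0x20), nat_lit 1)]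
noncomputable def n3_0 : Net := mkNet (nat_lit 8) [(nat_lit 4, (nat_lit 0xaa)), (nat_lit 2, (nat_lit 0xa8))] [((nat_lit 0x10), nat_lit 1)]
noncomputable def n3_1 : Net := mkNet (nat_lit 8) [(nat_lit 4, (nat_lit 0xcc)), (nat_lit 2, (nat_lit 0xa0))] [((nat_lit 0x14), nat_lit 1)]
noncomputable def n3_2 : Net := mkNet (nat_lit 8) [(nat_lit 4, (nat_lit 0)), (nat_lit 2, (nat_lit 0))] [((nat_lit 0x50), nat_lit 1)]
noncomputable def n4_0 : Net := mkNet (nat_lit 8) [(nat_lit 4, (nat_lit 0)), (nat_lit 2, (nat_lit 0x80))] [((nat_lit 0x40), nat_lit 1)]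
noncomputable def nets0 : List Net := [n0_0, n0_1, n0_2, n0_3, n0_4, n0_5]
noncomputable def nets1 : List Net := [n0_0, n0_1, n0_2, n0_3, n0_4]
def ws1 : List (List ℕ) := [[0],
  [1],
  [2],
  [3],
  [4]]
noncomputable def nets2 : List Net := [n2_0, n2_1, n2_2]
def ws2 : List (List ℕ) := [[1, 2, 3, 2, 1, 0, 1, 0, 2, 3, 1, 2, 1, 0, 1],
  [3],
  [4]]
noncomputable def nets3 : List Net := [n3_0, n3_1, n3_2]
def ws3 : List (List ℕ) := [[0, 1, 1, 0, 1],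
  [1],
  [2]]
noncomputable def nets4 : List Net := [n4_0, n3_2]
def ws4 : List (List ℕ) := [[1, 2, 2, 0],
  [2]]
noncomputable def nets5 : List Net := [n4_0]
def ws5 : List (List ℕ) := [[0]]
def sig : List (List ℕ) := [[0],
  [1],
  [2],
  [3],
  [4],
  [5]]
def eqs0 : List (List ℕ × List ℕ) := [([0, 0], []),
  ([1, 1], []),
  ([2, 2], []),
  ([3, 3], []),
  ([4, 4], []),
  ([5, 5], []),
  ([0, 1, 0, 1, 0], [1, 0, 1, 0, 1]),
  ([0, 2], [2, 0]),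
  ([0, 3], [3, 0]),
  ([0, 4], [4, 0]),
  ([0, 5], [5, 0]),
  ([1, 2, 1], [2, 1, 2]),
  ([1, 3], [3, 1]),
  ([1, 4], [4, 1]),
  ([1, 5, 1], [5, 1, 5]),
  ([2, 3, 2, 3, 2, 3, 2, 3], [3, 2, 3, 2, 3, 2, 3, 2]),
  ([2, 4], [4, 2]),
  ([2, 5], [5, 2]),
  ([3, 4, 3], [4, 3, 4]),
  ([3, 5], [5, 3]),
  ([4, 5], [5, 4]),
  ([0, 3, 2, 3, 2], [2, 3, 2, 3]),
  ([0, 1, 2, 5, 0, 1, 2, 5, 0, 1], [5, 2, 1, 0, 5, 2, 1, 0, 5, 2]),
  ([1, 2, 3, 2, 3, 1, 2, 3, 2, 3, 1, 2, 3, 2, 3, 1, 2, 3, 2, 3, 1, 2, 3, 2, 3, 4, 1, 2, 3, 2, 3, 1, 2, 3, 2, 3, 1, 2, 3], [4, 3, 2, 3, 2, 1, 3, 2, 3, 2, 1, 3, 2, 3, 2, 1, 3, 2, 3, 2, 1, 3, 2, 3, 2, 1, 4, 3, 2, 3, 2, 1, 3, 2, 3, 2, 1, 3, 2])]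
def eqs : List (List ℕ × List ℕ) := eqs0
def lU : List (ℕ × ℕ) := [(0, 34), (40, 382)]
noncomputable def U : ℕ := ivls lU
def l1 : List (ℕ × ℕ) := [(1, 33), (40, 282)]
noncomputable def S1 : ℕ := ivls l1
def w1 : List ℕ := [5]
def l2 : List (ℕ × ℕ) := [(322, 100)]
noncomputable def S2 : ℕ := ivls l2
def w2 : List ℕ := [5, 1, 2, 3, 2, 1, 5]
noncomputable def J : List (List ℕ × ℕ × ℕ) := [(w1, 1, S1), (w2, 322, S2)]
def lBig : List (ℕ × ℕ) := [(1, 33), (40, 282)]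
noncomputable def J2 : List (List ℕ × ℕ × ℕ) := [([2, 1, 2, 1, 0, 4, 0], 1, S1)]
noncomputable def J1 : List (List ℕ × ℕ × ℕ) := [([0], 1, S1)]
def ex : List (List ℕ) := [[4, 5, 3, 2, 1, 2, 0]]
def bs' : List ℕ := [0, 1, 2, 3, 4, 5]
end CfH6.G2A
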